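import Cfsg.Agent.H81.HS.CertSmall
import Cfsg.Agent.H81.HS.Schur2

/-! Checks of the certificate for the prime two. -/

set_option autoImplicit false
set_option maxRecDepth 100000

namespace H81.HS2

open H97.SchurCert

theorem syms2 : symsOK data2 symW2 = true := by decide +kernel
theorem rules2 : rulesOK mulP idP data2 = true := by decide +kernel
theorem defs2 : defsOK data2 = true := by decide +kernel
theorem pc2 : pcOK data2 = true := by decide +kernel
theorem combos2 : combosOK data2 = true := by decide +kernel
theorem size2 : sizeOK mulP idP data2 = true := by decide +kernel

end H81.HS2
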