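import Cfsg.Agent.H81.HS.Image
import Cfsg.Agent.H81.HS.CertTwo
import Cfsg.Agent.H97.SchurMathieu
import Cfsg.Agent.H26.PerfectCoverSchur
import Cfsg.Agent.H95.OutSwap

/-!
The Schur multiplier of the Higman–Sims group has order 2.
-/

set_option autoImplicit false
set_option maxRecDepth 100000

namespace H81.HS2

open H97.SchurCert

/-- Packed permutations code the group. -/
noncomputable def coding : Coding G0 mulP idP where
  code g := code g.1
  inj := fun a b h => Subtype.ext (code_inj' a.2 b.2 h)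
  map_one := code_one
  map_mul a b := code_mul' a.2 b.2

theorem syms_exist {D : Data} {W : List ℕ} (h : symsOK D W = true) :
    ∀ v ∈ D.syms, ∃ g : G0, coding.code g = v := by
  simp only [symsOK, Bool.and_eq_true, decide_eq_true_eq, List.all_eq_true, List.mem_range,
    beq_iff_eq] at h
  intro v hv
  obtain ⟨i, hi, rfl⟩ := List.getElem_of_mem hv
  obtain ⟨hlt, he⟩ := h.2 i (h.1 ▸ hi)
  obtain ⟨g, hg, hc⟩ := restP_mem hlt
  exact ⟨⟨g, hg⟩, by show code g = _; rw [hc, he, List.getD_eq_getElem _ _ hi]⟩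

theorem trivial_multiplier : Cfsg.HasCyclicSchurMultiplier G0 1 := by
  refine H97.hasTrivialMultiplier fun Γ _ _ σ hσ => ?_
  rw [← Subgroup.card_eq_one]
  by_contra hne
  obtain ⟨p, hp, hdvd⟩ := Nat.exists_prime_and_dvd hne
  haveI := Fact.mk hp
  have hsq := sq_dvd_of_dvd_card_ker σ hσ hdvd
  rw [card_G0] at hsq
  have hd : p ∣ 2 ^ 10 * 3 ^ 2 * 5 ^ 3 * 7 * 11 :=
    (show (88704000 : ℕ) = 2 ^ 10 * 3 ^ 2 * 5 ^ 3 * 7 * 11 by norm_num) ▸
      (dvd_pow_self p two_ne_zero).trans hsq
  have h5 : p = 2 ∨ p = 3 ∨ p = 5 ∨ p = 7 ∨ p = 11 := by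
    rcases hp.dvd_mul.1 hd with h | h
    · rcases hp.dvd_mul.1 h with h | h
      · rcases hp.dvd_mul.1 h with h | h
        · rcases hp.dvd_mul.1 h with h | h
          · exact Or.inl ((Nat.prime_dvd_prime_iff_eq hp Nat.prime_two).1 (hp.dvd_of_dvd_pow h))
          · exact Or.inr (Or.inl ((Nat.prime_dvd_prime_iff_eq hp Nat.prime_three).1
              (hp.dvd_of_dvd_pow h)))
        · exact Or.inr (Or.inr (Or.inl ((Nat.prime_dvd_prime_iff_eq hp (by norm_num)).1
            (hp.dvd_of_dvd_pow h))))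
      · exact Or.inr (Or.inr (Or.inr (Or.inl ((Nat.prime_dvd_prime_iff_eq hp (by norm_num)).1 h))))
    · exact Or.inr (Or.inr (Or.inr (Or.inr ((Nat.prime_dvd_prime_iff_eq hp (by norm_num)).1 h))))
  rcases h5 with rfl | rfl | rfl | rfl | rfl
  · haveI : Fact data2.p.Prime := ⟨Nat.prime_two⟩
    exact not_dvd_card_ker coding data2 (syms_exist syms2) rules2 defs2 pc2 size2 combos2
      (M := 86625) (by rw [card_G0]; rfl) (by decide) σ hσ hdvd
  · haveI : Fact data3.p.Prime := ⟨Nat.prime_three⟩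
    exact not_dvd_card_ker coding data3 (syms_exist syms3) rules3 defs3 pc3 size3 combos3
      (M := 9856000) (by rw [card_G0]; rfl) (by decide) σ hσ hdvd
  · haveI : Fact data5.p.Prime := ⟨by show Nat.Prime 5; norm_num⟩
    exact not_dvd_card_ker coding data5 (syms_exist syms5) rules5 defs5 pc5 size5 combos5
      (M := 709632) (by rw [card_G0]; rfl) (by decide) σ hσ hdvd
  all_goals norm_num at hsq

/-- The projection to the Higman–Sims group. -/
noncomputable def toHS : G0 →* Cfsg.Spor.HS :=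
  (H95.infStabPair H95.pvU').symm.toMonoidHom.comp proj

theorem multiplier : Cfsg.HasCyclicSchurMultiplier Cfsg.Spor.HS 2 := by
  haveI : Finite G0 := Nat.finite_of_card_ne_zero (by rw [card_G0]; norm_num)
  haveI : Fact (Nat.Prime 2) := ⟨Nat.prime_two⟩
  have hk : toHS.ker = proj.ker := MonoidHom.ker_mulEquiv_comp proj (H95.infStabPair H95.pvU').symm
  exact H26.hasCyclicSchurMultiplier_of_perfect_cover toHS
    ((H95.infStabPair H95.pvU').symm.surjective.comp proj_surjective)
    (hk ▸ ker_le_center) (by rw [hk]; exact card_ker) perfect trivial_multiplier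

end H81.HS2
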