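import Cfsg.Agent.H97.SchurCertDefs

/-! Certificate for the 5 part of the multiplier of the double cover on 704 points. -/

set_option autoImplicit false
set_option maxRecDepth 100000

namespace H81.HS2

/-- Chain coordinates of the symbols. -/
def symW5 : List ℕ := [183638272, 1144154345, 114641517, 174327105]

/-- The certificate. -/
def data5 : H97.SchurCert.Data where
  p := 5
  n := 3
  syms := [
    0xace996d8ec625a08be492c9ad6d5af839195f8160f0555ac5d9c261adea7a46aba163c77c751a9e95ccd46f4e828149ab590348011e46c10e7e9ecaf6c0dc4f10090e6e611a56398c729922116e09563795bb6794fa39a97be4f2e9c7319810a4329a010a2659958a866dc561e4c8da063c9d176e6da1a6788cf67ea2851232a290c11c2156e648faa58c22a5840b8825a7d4ab672452f5c3330e6a4e3465cb6454031209807d5838999aecc94a8ea365572d0cf0884b5188668ca22b5b918c2aa8a2c03cc1308df9054a9cd520186fa025e3fca729142894bf628f0739348009b5f61b861c01803e946b85b44d5d07f781fc7feb124c1ca525c41e128711c8e1789d69d7c60a5a1e7755947d804499dc59ea089a77af5ab8252822c2c761f33f2021ed22850ca1949ead15f2548f0688016d64a7e796cc342357a25cc47209c16438148e53bdcd2e4891cd393ed2485c6919836ab856a36974fdf93e6051c0d0458315c521414db5769a5423a4b4f54cd3146d3a1447c6fd837890f840441027c94e47af9ed4bc135de1e75d037ad4c35e55928e02083a0542f060091784f989559ae83aa540698b14410b44a0d1dc91479377490809c0c,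
    0xac55a9c2b786ce23908b9f06aa468626a9c6bebe732031f1a84b132686a79fa6599a5b7ce1597a8c5ce310f0b4429542a0106390315cc8798f729e2c744fe8dc0d9d4da9889467df166d6da5dff6c9696a9e87e66a7f5981c4040d58888412099823d5d7a253e71ea27097f7d19c6edc5aa0915e67381c868361e7e83a2fe3f11c5f58d8b90049821b66fc765e9777b6805c1e3019604e0789b8e63b528690de3808da3dad25958a4d2a1b1ef4e919528bb28c251480a43c1f1ed2ea78755f069960727a8ac054022149d3aaa58409983c6e6e0630a8f020da25bc449e9514723d73a9497106940b0898af06dd488e3aaf6ab84cd59346695d4292c2064645a85b1ad66ca6e1d8157469d85346536542c59e29448308cddf7851a65dd37605091d8757ab83754f0fcd25254492500424b79d87e4d55c9827820601a14c4280b38e4b9131468bc173e90448cca500fc070f9600363a1cb4f698ab49f4de8baee4f49cc2150c63591455d0c3042854d25339218a85d7944aacc89704ee24a18724d97de696f530aba175adb482a8323d4c0cc602accc1945816c400611f6319245e432f4f20011008e240e42f950428d1db774a40204f5940f,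
    0x2f40e214e3524250e0b90e90212454565313c8223a5430ac768ae2d9d5b4aa9ba5e9d99a6727d60fa44ab2b4bf308cf110c7344f0528983aa8e64dc78f98aa02a81c88d0a4b71f808048e51b92a4c92923a5b695a6a35787ad40384ec24453378826e28b3d81e2bc200f4a90402d26874219013d56188da9642657e8bb09842320a556c4771636374710700c1b07c7cd72998a7029ab3014e4484148d2418467445394f13e4821e95de591abcaed5318cef499545591e956a543d0827c965753782ab88304e35abe3f15017450434fea9de6870d217a450dc8b4713b615a38d2891ee617b4a336019701b39be625bdc3001e99c4b301cb5625628a6206ddb10686b685685a9987425c5b40400c78368682819e60583619af9625f66d9d9fdac5c5fe452b586458534cc90a52acaa2939e2220fa9e165869f69f298810c416d2e4589d579cb6fa3892a25a4eae85e83a7a10a81c80d1078f1e09b22e749df5fcd5518324611b1963065d8d6565076eacade40822978ce4d0583e4d0803e52c0c1d489d74739ef7e27a7c1fc802128542f2c0cb1345739944414144284a24894926955f5d7a71cc639679ae776f28481e87a6d767763aac603,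
    0x64a2b71275ad9a09262f73e71aa9a9839e6589d55f6195ade06b26162237a39b488a3c769fe5a5727a1958a5c09dab9642ad946125b1f287264606956c25c76200959a472a6f8c64c612b35e5f586d7f7968866a38a45af7424fac5c7af67b7d967a2a026ea6690e9d67db79b18ca9961829ee7798688258a11fc7e9bc89a459a1dc821756aa7ea923f63e98819f0a1a5a5baa167232abda3949828b6ba65e78591f88797a8568c6ca5e8d6967aaa969a54736b485dd28e97170e7dafa7278e1062a928124a722639069f6e2475d9eda019975a6aa6e83895bea8a0d2cc1c4009b0f025150e849c3e349481e1060807f174f61d0ba0b1342b8dc1300110cfc53c853b0a8028f21ad18058d50a48a1850c0c8aa510a13195a11928014934f06d4701023122079501943833cb9099302041b10515528b738c571e898408c43083b1989e4e0e1344b457c194c853421200887d165052f035564c8110023e40e1c0ee4402e219250d8db504a5329460313a1c88e144f546c682f8e71890f0a93f168a3335522b46f0492e01c483f8964acd753156304e42089d42830221361791337955299423a95c364b145814138f0240764780812cfb2512d]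
  rules := [
    ([0, 0, 0, 0, 0], []),
    ([1, 1, 1, 1, 1], []),
    ([2, 2, 2, 2, 2], []),
    ([1, 0], [0, 1, 2]),
    ([2, 0], [0, 2]),
    ([2, 1], [1, 2]),
    ([3, 0], [0, 0, 0, 0, 3]),
    ([3, 1], [1, 1, 1, 1, 2, 2, 3])]
  defs := [(3, 2)]
  targets := [0, 1, 2, 4, 5]
  paths := [
    ([1, 1, 1, 1, 1, 0], [(0, 1, true), (1, 2, false), (1, 1, false), (5, 5, false), (6, 5, false), (7, 5, false), (8, 5, false), (4, 5, false), (5, 5, false), (6, 5, false), (3, 5, false), (4, 5, false), (2, 5, false), (0, 3, false), (1, 3, false), (2, 3, false), (3, 3, false), (4, 3, false)]),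
    ([3, 1, 0, 0, 1], [(1, 3, true), (3, 4, true), (2, 3, true), (5, 5, true), (4, 5, true), (4, 5, false), (2, 3, false), (3, 3, false), (0, 6, true), (4, 7, true), (10, 7, true), (16, 6, true), (9, 5, true), (8, 5, true), (4, 1, true), (5, 5, true), (4, 5, true), (6, 5, true), (5, 5, true), (7, 5, true), (6, 5, true), (10, 4, true), (9, 4, true), (8, 4, true), (7, 4, true), (6, 3, true), (5, 3, true), (4, 3, true), (0, 0, true), (1, 5, true), (3, 5, true), (2, 5, true), (3, 2, true), (4, 4, true), (3, 4, true), (2, 3, true), (1, 3, true), (0, 3, true), (2, 5, true), (4, 5, true), (3, 5, true), (4, 2, true), (3, 3, true), (2, 3, true), (1, 3, true), (3, 5, true), (5, 5, true), (4, 5, true), (7, 4, true), (6, 4, true), (5, 4, true), (4, 3, true), (3, 3, true), (2, 3, true), (4, 5, true), (6, 5, true), (5, 5, true), (6, 2, true), (6, 2, false), (5, 5, false), (6, 5, false), (7, 5, false), (8, 5, false), (4, 5, false), (5, 5, false), (6, 5, false), (7, 5, false), (3, 5, false), (4, 5, false), (5, 5, false), (6, 5, false), (3, 1, false), (7,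 5, false), (8, 5, false), (9, 5, false), (10, 5, false), (6, 5, false), (7, 5, false), (8, 5, false), (5, 5, false), (6, 5, false), (4, 5, false), (2, 3, false), (3, 3, false), (4, 3, false), (5, 3, false), (6, 2, false), (5, 5, false), (6, 5, false), (7, 5, false), (4, 5, false), (5, 5, false), (3, 5, false), (1, 3, false), (2, 3, false), (3, 3, false), (4, 3, false), (5, 4, false), (5, 2, false), (4, 5, false), (5, 5, false), (6, 5, false), (3, 5, false), (4, 5, false), (2, 5, false), (0, 3, false), (1, 3, false), (2, 3, false), (3, 3, false), (4, 4, false), (5, 4, false), (4, 2, false), (3, 5, false), (4, 5, false), (5, 5, false), (2, 5, false), (3, 5, false), (1, 5, false), (0, 0, false), (4, 3, false), (5, 3, false), (6, 3, false), (7, 3, false), (8, 4, false), (9, 4, false), (10, 4, false), (8, 2, false), (7, 5, false), (8, 5, false), (9, 5, false), (6, 5, false), (7, 5, false), (5, 5, false), (3, 3, false), (4, 3, false), (5, 3, false), (6, 3, false), (7, 4, false), (8, 4, false), (9, 4, false), (10, 4, false), (6, 5, false), (7,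 5, false), (8, 5, false), (5, 5, false), (6, 5, false), (4, 5, false), (2, 3, false), (3, 3, false), (4, 3, false), (5, 3, false), (6, 2, false), (5, 5, false), (6, 5, false), (7, 5, false), (4, 5, false), (5, 5, false), (3, 5, false), (1, 3, false), (2, 3, false), (3, 3, false), (4, 3, false), (5, 4, false), (5, 2, false), (4, 5, false), (5, 5, false), (6, 5, false), (3, 5, false), (4, 5, false), (2, 5, false), (0, 3, false), (1, 3, false), (2, 3, false), (3, 3, false), (4, 4, false), (5, 4, false), (14, 7, false), (10, 6, false), (6, 6, false), (0, 7, false)]),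
    ([3, 0, 0, 0, 0, 0], [(1, 0, true), (0, 0, false), (0, 0, false), (0, 0, false), (0, 0, false), (16, 6, false), (12, 6, false), (8, 6, false), (4, 6, false), (0, 6, false)]),
    ([3, 1, 0, 0, 0, 1], [(1, 3, true), (3, 4, true), (2, 3, true), (5, 4, true), (4, 4, true), (3, 3, true), (7, 5, true), (6, 5, true), (5, 5, true), (5, 5, false), (3, 3, false), (4, 3, false), (5, 4, false), (4, 5, false), (2, 3, false), (0, 6, true), (4, 7, true), (10, 6, true), (14, 7, true), (20, 6, true), (9, 4, true), (8, 4, true), (7, 3, true), (6, 3, true), (5, 3, true), (4, 3, true), (0, 0, true), (1, 5, true), (3, 5, true), (2, 5, true), (5, 5, true), (4, 5, true), (3, 5, true), (4, 2, true), (4, 4, true), (3, 3, true), (2, 3, true), (1, 3, true), (0, 3, true), (2, 5, true), (4, 5, true), (3, 5, true), (6, 5, true), (5, 5, true), (4, 5, true), (5, 2, true), (4, 3, true), (3, 3, true), (2, 3, true), (1, 3, true), (3, 5, true), (5, 5, true), (4, 5, true), (7, 5, true), (6, 5, true), (5, 5, true), (9, 4, true), (8, 4, true), (7, 4, true), (6, 4, true),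 (5, 3, true), (4, 3, true), (3, 3, true), (2, 3, true), (4, 5, true), (6, 5, true), (5, 5, true), (8, 5, true), (7, 5, true), (6, 5, true), (7, 2, true), (9, 5, true), (8, 5, true), (7, 5, true), (3, 1, true), (5, 5, true), (4, 5, true), (3, 5, true), (6, 5, true), (5, 5, true), (4, 5, true), (7, 5, true), (6, 5, true), (5, 5, true), (6, 2, true), (5, 3, true), (4, 3, true), (3, 3, true), (5, 5, true), (7, 5, true), (6, 5, true), (9, 4, true), (8, 4, true), (7, 4, true), (6, 3, true), (5, 3, true), (4, 3, true), (0, 0, true), (1, 5, true), (3, 5, true), (2, 5, true), (3, 2, true), (3, 4, true), (2, 3, true), (1, 3, true), (0, 3, true), (2, 5, true), (4, 5, true), (3, 5, true), (7, 4, true), (6, 4, true), (5, 4, true), (4, 4, true), (3, 3, true), (2, 3, true), (1, 3, true), (3, 5, true), (5, 5, true), (4, 5, true), (5, 2, true), (2, 1, false), (6, 2, false), (5, 5, false), (6, 5, false), (7, 5, false), (4, 5, false), (5, 5, false), (3, 5, false), (1, 3, false), (2, 3, false), (3, 3, false), (4, 3, false), (5, 4, false), (5, 2, false), (4,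 5, false), (5, 5, false), (6, 5, false), (3, 5, false), (4, 5, false), (2, 5, false), (0, 3, false), (1, 3, false), (2, 3, false), (3, 3, false), (4, 4, false), (5, 4, false), (4, 2, false), (3, 5, false), (4, 5, false), (5, 5, false), (2, 5, false), (3, 5, false), (1, 5, false), (0, 0, false), (4, 3, false), (5, 3, false), (6, 3, false), (7, 3, false), (8, 4, false), (9, 4, false), (10, 4, false), (8, 2, false), (7, 5, false), (8, 5, false), (9, 5, false), (6, 5, false), (7, 5, false), (5, 5, false), (3, 3, false), (4, 3, false), (5, 3, false), (6, 3, false), (7, 4, false), (8, 4, false), (9, 4, false), (10, 4, false), (6, 5, false), (7, 5, false), (8, 5, false), (5, 5, false), (6, 5, false), (4, 5, false), (2, 3, false), (3, 3, false), (4, 3, false), (5, 3, false), (6, 2, false), (5, 5, false), (6, 5, false), (7, 5, false), (4, 5, false), (5, 5, false), (3, 5, false), (1, 3, false), (2, 3, false), (3, 3, false), (4, 3, false), (5, 4, false), (5, 2, false), (4, 5, false), (5, 5, false), (6, 5, false), (3, 5, false), (4, 5, false), (2,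 5, false), (0, 3, false), (1, 3, false), (2, 3, false), (3, 3, false), (4, 4, false), (5, 4, false), (4, 2, false), (3, 5, false), (4, 5, false), (5, 5, false), (2, 5, false), (3, 5, false), (1, 5, false), (0, 0, false), (4, 3, false), (5, 3, false), (6, 3, false), (7, 3, false), (8, 4, false), (9, 4, false), (10, 4, false), (8, 2, false), (7, 5, false), (8, 5, false), (9, 5, false), (6, 5, false), (7, 5, false), (5, 5, false), (3, 3, false), (4, 3, false), (5, 3, false), (6, 3, false), (7, 4, false), (8, 4, false), (9, 4, false), (10, 4, false), (6, 5, false), (7, 5, false), (8, 5, false), (5, 5, false), (6, 5, false), (4, 5, false), (2, 3, false), (3, 3, false), (4, 3, false), (5, 3, false), (6, 2, false), (5, 5, false), (6, 5, false), (7, 5, false), (4, 5, false), (5, 5, false), (3, 5, false), (1, 3, false), (2, 3, false), (3, 3, false), (4, 3, false), (5, 4, false), (5, 2, false), (4, 5, false), (5, 5, false), (6, 5, false), (3, 5, false), (4, 5, false), (2, 5, false), (0, 3, false), (1, 3, false), (2, 3, false), (3, 3, false), (4,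 4, false), (5, 4, false), (18, 7, false), (14, 6, false), (10, 6, false), (6, 6, false), (0, 7, false)]),
    ([3, 1, 1, 1, 1, 1], [(1, 1, true), (0, 2, false), (0, 1, false), (4, 5, false), (5, 5, false), (6, 5, false), (3, 5, false), (4, 5, false), (5, 5, false), (2, 5, false), (3, 5, false), (4, 5, false), (1, 5, false), (2, 5, false), (3, 5, false), (0, 5, false), (0, 1, false), (4, 5, false), (3, 5, false), (2, 5, false), (2, 2, false), (1, 5, false), (2, 5, false), (3, 5, false), (4, 5, false), (0, 5, false), (1, 5, false), (2, 5, false), (3, 5, false), (0, 1, false), (4, 5, false), (5, 5, false), (6, 5, false), (7, 5, false), (3, 5, false), (4, 5, false), (5, 5, false), (6, 5, false), (2, 5, false), (3, 5, false), (1, 5, false), (2, 5, false), (0, 5, false), (1, 5, false), (0, 1, false), (4, 5, false), (5, 5, false), (24, 7, false), (18, 7, false), (12, 7, false), (6, 7, false), (0, 7, false)])]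
  combos := [
    [(2, 3)],
    [(0, 4), (4, 3)],
    [(0, 4)],
    [(1, 2), (3, 3)],
    [(0, 3), (1, 1), (3, 2)]]
  sorted := [
    105, 23, 84, 21, 40, 92, 45, 106, 77, 57, 26, 58, 63, 83, 78, 4, 51, 112, 18, 66,
    121, 47, 99, 94, 43, 10, 89, 102, 50, 32, 120, 37, 13, 8, 34, 116, 97, 30, 3, 25,
    111, 54, 88, 56, 85, 61, 114, 42, 44, 101, 27, 31, 87, 98, 14, 75, 24, 19, 22, 80,
    123, 11, 15, 79, 91, 9, 93, 82, 35, 71, 17, 95, 74, 90, 28, 110, 36, 70, 100, 53,
    65, 7, 124, 119, 39, 49, 115, 73, 41, 109, 122, 96, 118, 55, 117, 29, 12, 67, 81, 103,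
    38, 76, 104, 2, 68, 16, 48, 6, 59, 69, 72, 52, 64, 107, 46, 60, 86, 108, 113, 62,
    20, 33, 5, 1, 0]

end H81.HS2
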