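import Cfsg.Agent.H81.HS.Table
import Cfsg.Agent.H81.HS.Schur3
import Cfsg.Agent.H81.HS.Schur5

/-! Checks of the certificates for the odd primes. -/

set_option autoImplicit false
set_option maxRecDepth 100000

namespace H81.HS2

open H97.SchurCert

/-- The symbols are products along the chain. -/
noncomputable def symsOK (D : Data) (W : List ℕ) : Bool :=
  decide (D.syms.length = W.length) && (List.range W.length).all fun i =>
    restLt 4 0 (W.getD i 0) && restP 4 0 (W.getD i 0) == D.syms.getD i 0

theorem syms3 : symsOK data3 symW3 = true := by decide +kernel
theorem syms5 : symsOK data5 symW5 = true := by decide +kernel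
theorem rules3 : rulesOK mulP idP data3 = true := by decide +kernel
theorem rules5 : rulesOK mulP idP data5 = true := by decide +kernel
theorem defs3 : defsOK data3 = true := by decide +kernel
theorem defs5 : defsOK data5 = true := by decide +kernel
theorem pc3 : pcOK data3 = true := by decide +kernel
theorem pc5 : pcOK data5 = true := by decide +kernel
theorem size3 : sizeOK mulP idP data3 = true := by decide +kernel
theorem size5 : sizeOK mulP idP data5 = true := by decide +kernel
theorem combos3 : combosOK data3 = true := by decide +kernel
theorem combos5 : combosOK data5 = true := by decide +kernel

end H81.HS2
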