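import Cfsg.Agent.H81.HS.Table

/-! Checks of the small levels and of the generators. -/

set_option autoImplicit false
set_option maxRecDepth 100000

namespace H81.HS2

theorem pairA : pairOK cA cAi = true := by decide +kernel
theorem pairB : pairOK cB cBi = true := by decide +kernel
theorem len_ok : (List.range 4).all (fun k => (trList k).length == size k) = true := by decide +kernel
theorem words0 : wordsOK 0 = true := by decide +kernel
theorem words1 : wordsOK 1 = true := by decide +kernel
theorem words2 : wordsOK 2 = true := by decide +kernel
theorem tree2 : treeOK 2 0 180 = true := by decide +kernel
theorem tree3 : treeOK 3 0 2 = true := by decide +kernel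
theorem fix_ok : (List.range 4).all fixOK = true := by decide +kernel
theorem step2 : stepOK 2 0 180 = true := by decide +kernel
theorem step3 : stepOK 3 0 2 = true := by decide +kernel

end H81.HS2
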