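import Cfsg.Agent.H81.HS.Table

/-! Sifting checks of the first level. -/

set_option autoImplicit false
set_option maxRecDepth 100000

namespace H81.HS2

theorem step0_0 : stepOK 0 0 176 = true := by decide +kernel
theorem step0_176 : stepOK 0 176 176 = true := by decide +kernel

end H81.HS2
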