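import Cfsg.Agent.H81.HS.Table

/-! Sifting checks of the second level. -/

set_option autoImplicit false
set_option maxRecDepth 100000

namespace H81.HS2

theorem step1_0 : stepOK 1 0 175 = true := by decide +kernel
theorem step1_175 : stepOK 1 175 175 = true := by decide +kernel

end H81.HS2
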