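import Cfsg.Agent.H81.HS.Table

/-! Tree checks of the large levels. -/

set_option autoImplicit false
set_option maxRecDepth 100000

namespace H81.HS2

theorem tree0_0 : treeOK 0 0 176 = true := by decide +kernel
theorem tree0_176 : treeOK 0 176 176 = true := by decide +kernel
theorem tree0_352 : treeOK 0 352 176 = true := by decide +kernel
theorem tree0_528 : treeOK 0 528 176 = true := by decide +kernel
theorem tree1_0 : treeOK 1 0 175 = true := by decide +kernel
theorem tree1_175 : treeOK 1 175 175 = true := by decide +kernel

end H81.HS2
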