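import Mathlib
import Cfsg.Agent.H81.HS.CheckSmall
import Cfsg.Agent.H81.HS.CheckTree
import Cfsg.Agent.H81.HS.CheckStepA
import Cfsg.Agent.H81.HS.CheckStepB
import Cfsg.Agent.H81.HS.CheckStepC

/-!
The group generated by two permutations of 704 points has order 88704000.
-/

set_option autoImplicit false
set_option maxRecDepth 100000

namespace H81.HS2

open scoped Classical commutatorElement

/-- The first generator. -/
noncomputable def gA : Equiv.Perm Pt := Classical.choose (exists_of_pairOK pairA)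

/-- The second generator. -/
noncomputable def gB : Equiv.Perm Pt := Classical.choose (exists_of_pairOK pairB)

theorem gA_spec : gA * sPerm = sPerm * gA ∧ code gA = cA :=
  Classical.choose_spec (exists_of_pairOK pairA)

theorem gB_spec : gB * sPerm = sPerm * gB ∧ code gB = cB :=
  Classical.choose_spec (exists_of_pairOK pairB)

/-- The group. -/
def G0 : Subgroup (Equiv.Perm Pt) := Subgroup.closure {gA, gB}

theorem gA_mem : gA ∈ G0 := Subgroup.subset_closure (Or.inl rfl)

theorem gB_mem : gB ∈ G0 := Subgroup.subset_closure (Or.inr rfl)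

theorem comm_s {g : Equiv.Perm Pt} (hg : g ∈ G0) : g * sPerm = sPerm * g := by
  induction hg using Subgroup.closure_induction with
  | mem x hx =>
    rcases hx with rfl | hx
    · exact gA_spec.1
    · rw [Set.mem_singleton_iff.1 hx]; exact gB_spec.1
  | one => rw [one_mul, mul_one]
  | mul a b _ _ ha hb => rw [mul_assoc, hb, ← mul_assoc, ha, mul_assoc]
  | inv a _ ha => exact (Commute.inv_left (show Commute a sPerm from ha)).eq

theorem code_mul' {g h : Equiv.Perm Pt} (hg : g ∈ G0) (hh : h ∈ G0) :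
    code (g * h) = mulP (code g) (code h) := code_mul (comm_s hg) (comm_s hh)

theorem code_inj' {g h : Equiv.Perm Pt} (hg : g ∈ G0) (hh : h ∈ G0) (e : code g = code h) :
    g = h := code_inj (comm_s hg) (comm_s hh) e

/-- The element with a given code. -/
noncomputable def el (c : ℕ) : Equiv.Perm Pt :=
  if h : ∃ g ∈ G0, code g = c then Classical.choose h else 1

theorem el_eq {g : Equiv.Perm Pt} (hg : g ∈ G0) : el (code g) = g := by
  have h : ∃ g' ∈ G0, code g' = code g := ⟨g, hg, rfl⟩
  rw [el, dif_pos h]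
  exact code_inj' (Classical.choose_spec h).1 hg (Classical.choose_spec h).2

/-- The generators of a level. -/
def X (k : ℕ) : Set (Equiv.Perm Pt) := {g | g ∈ G0 ∧ code g ∈ xList k}

/-- The group of a level. -/
def H (k : ℕ) : Subgroup (Equiv.Perm Pt) := Subgroup.closure (X k)

theorem H_le (k : ℕ) : H k ≤ G0 := (Subgroup.closure_le _).2 fun _ hg => hg.1

theorem H_zero : H 0 = G0 := le_antisymm (H_le 0) ((Subgroup.closure_le _).2 fun g hg => by
  refine Subgroup.subset_closure ?_
  rcases hg with rfl | hg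
  · exact ⟨gA_mem, by rw [gA_spec.2]; simp [xList]⟩
  · rw [Set.mem_singleton_iff.1 hg]; exact ⟨gB_mem, by rw [gB_spec.2]; simp [xList]⟩)

theorem word_mem (k : ℕ) (hx : ∀ c ∈ xList k, ∃ g ∈ G0, code g = c) :
    ∀ w : List ℕ, (∀ a ∈ w, a < (xList k).length) → ∃ g ∈ H k, code g = wordP k w
  | [], _ => ⟨1, one_mem _, by rw [code_one, wordP, List.foldr_nil]⟩
  | a :: w, h => by
    obtain ⟨g, hg, hgc⟩ := word_mem k hx w fun b hb => h b (List.mem_cons_of_mem _ hb)
    have ha : xAt k a ∈ xList k := by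
      rw [xAt, List.getD_eq_getElem _ _ (h a List.mem_cons_self)]
      exact List.getElem_mem _
    obtain ⟨x, hx, hxc⟩ := hx _ ha
    have hxH : x ∈ H k := Subgroup.subset_closure ⟨hx, by rw [hxc]; exact ha⟩
    refine ⟨x * g, mul_mem hxH hg, ?_⟩
    rw [code_mul' hx (H_le k hg), hxc, hgc]
    rfl

theorem words_all : ∀ k < 3, wordsOK k = true := by
  intro k hk
  interval_cases k
  exacts [words0, words1, words2]

theorem x_succ {k : ℕ} (hk : k < 3) (hx : ∀ c ∈ xList k, ∃ g ∈ G0, code g = c) :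
    ∀ c ∈ xList (k + 1), ∃ g ∈ H k, code g = c := by
  intro c hc
  obtain ⟨i, hi, rfl⟩ := List.getElem_of_mem hc
  have h := words_all k hk
  simp only [wordsOK, Bool.and_eq_true, List.all_eq_true, List.mem_range, decide_eq_true_eq,
    beq_iff_eq] at h
  obtain ⟨hw, he⟩ := h.2 i hi
  obtain ⟨g, hg, hgc⟩ := word_mem k hx _ hw
  exact ⟨g, hg, by rw [hgc, he, xAt, List.getD_eq_getElem _ _ hi]⟩

theorem x_exists : ∀ k, ∀ c ∈ xList k, ∃ g ∈ G0, code g = c
  | 0, c, hc => by
    simp only [xList, List.mem_cons, List.not_mem_nil, or_false] at hc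
    rcases hc with rfl | rfl
    exacts [⟨gA, gA_mem, gA_spec.2⟩, ⟨gB, gB_mem, gB_spec.2⟩]
  | k + 1, c, hc => by
    by_cases hk : k < 3
    · obtain ⟨g, hg, hgc⟩ := x_succ hk (x_exists k) c hc
      exact ⟨g, H_le k hg, hgc⟩
    · obtain ⟨m, rfl⟩ : ∃ m, k = m + 3 := ⟨k - 3, by omega⟩
      simp [xList] at hc

theorem H_succ_le {k : ℕ} (hk : k < 4) : H (k + 1) ≤ H k := by
  rw [H, Subgroup.closure_le]
  rintro g ⟨hg, hgc⟩
  by_cases h3 : k < 3
  · obtain ⟨g', hg', hc⟩ := x_succ h3 (x_exists k) _ hgc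
    rwa [code_inj' hg (H_le k hg') hc.symm]
  · obtain rfl : k = 3 := by omega
    simp [xList] at hgc

theorem H_le_of_le {k l : ℕ} (hkl : k ≤ l) (hl : l ≤ 4) : H l ≤ H k := by
  induction l, hkl using Nat.le_induction with
  | base => exact le_rfl
  | succ l _ ih => exact (H_succ_le (by omega)).trans (ih (by omega))

/-- A check on a range, by chunks. -/
theorem of_chunk {p : ℕ → Bool} {lo len : ℕ} (h : (List.range' lo len).all p = true) {i : ℕ}
    (h1 : lo ≤ i) (h2 : i < lo + len) : (List.range' i 1).all p = true := by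
  simp only [List.all_eq_true, List.mem_range'_1] at h ⊢
  exact fun j hj => h j ⟨by omega, by omega⟩

theorem tree_all : ∀ k < 4, ∀ i < size k, treeOK k i 1 = true := by
  intro k hk i hi
  interval_cases k <;> simp only [size] at hi
  · by_cases h1 : i < 176
    · exact of_chunk tree0_0 (Nat.zero_le _) (by omega)
    by_cases h2 : i < 352
    · exact of_chunk tree0_176 (by omega) (by omega)
    by_cases h3 : i < 528
    · exact of_chunk tree0_352 (by omega) (by omega)
    exact of_chunk tree0_528 (by omega) (by omega)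
  · by_cases h1 : i < 175
    · exact of_chunk tree1_0 (Nat.zero_le _) (by omega)
    exact of_chunk tree1_175 (by omega) (by omega)
  · exact of_chunk tree2 (Nat.zero_le _) (by omega)
  · exact of_chunk tree3 (Nat.zero_le _) (by omega)

theorem step_all : ∀ k < 4, ∀ i < size k, stepOK k i 1 = true := by
  intro k hk i hi
  interval_cases k <;> simp only [size] at hi
  · by_cases h1 : i < 176
    · exact of_chunk step0_0 (Nat.zero_le _) (by omega)
    by_cases h2 : i < 352
    · exact of_chunk step0_176 (by omega) (by omega)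
    by_cases h3 : i < 528
    · exact of_chunk step0_352 (by omega) (by omega)
    exact of_chunk step0_528 (by omega) (by omega)
  · by_cases h1 : i < 175
    · exact of_chunk step1_0 (Nat.zero_le _) (by omega)
    exact of_chunk step1_175 (by omega) (by omega)
  · exact of_chunk step2 (Nat.zero_le _) (by omega)
  · exact of_chunk step3 (Nat.zero_le _) (by omega)

/-- A transversal element. -/
noncomputable def tEl (k i : ℕ) : Equiv.Perm Pt := el (trAt k i)

theorem tr_spec {k : ℕ} (hk : k < 4) : ∀ i, i < size k → tEl k i ∈ H k ∧ code (tEl k i) = trAt k i := by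
  intro i
  induction i using Nat.strong_induction_on with
  | _ i ih =>
    intro hi
    have main : ∀ g ∈ H k, code g = trAt k i → tEl k i ∈ H k ∧ code (tEl k i) = trAt k i := by
      intro g hg hc
      rw [tEl, ← hc, el_eq (H_le k hg)]
      exact ⟨hg, rfl⟩
    have h := List.all_eq_true.1 (tree_all k hk i hi) i (by simp)
    simp only [Bool.and_eq_true] at h
    obtain ⟨⟨h, -⟩, -⟩ := h
    by_cases h0 : i = 0
    · subst h0
      simp only [beq_self_eq_true, if_true, beq_iff_eq] at h
      exact main 1 (one_mem _) (code_one.trans h.symm)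
    · rw [if_neg (fun e => h0 (beq_iff_eq.1 e))] at h
      simp only [Bool.and_eq_true, decide_eq_true_eq, beq_iff_eq] at h
      obtain ⟨⟨hp, hg⟩, he⟩ := h
      obtain ⟨hm, hc⟩ := ih _ hp (by omega)
      obtain ⟨x, hx, hxc⟩ := x_exists k (xAt k ((parList k).getD i 0 % 4)) (by
        rw [xAt, List.getD_eq_getElem _ _ hg]; exact List.getElem_mem _)
      have hxH : x ∈ H k := Subgroup.subset_closure ⟨hx, by
        rw [hxc, xAt, List.getD_eq_getElem _ _ hg]; exact List.getElem_mem _⟩
      refine main _ (mul_mem hxH hm) ?_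
      rw [code_mul' hx (H_le k hm), hxc, hc, he]

theorem tr_base {k : ℕ} (hk : k < 4) {i : ℕ} (hi : i < size k) :
    (posList k).getD (tEl k i (pt (bases.getD k 0))).val 0 = i := by
  obtain ⟨hm, hc⟩ := tr_spec hk i hi
  have h := List.all_eq_true.1 (tree_all k hk i hi) i (by simp)
  simp only [Bool.and_eq_true, beq_iff_eq] at h
  have hb : ∀ k < 4, (pt (bases.getD k 0)).val = bases.getD k 0 := by decide
  rw [← img_code (comm_s (H_le k hm)), hb k hk, hc]
  exact h.2

theorem fix_base {k : ℕ} (hk : k < 4) {g : Equiv.Perm Pt} (hg : g ∈ H (k + 1)) :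
    g (pt (bases.getD k 0)) = pt (bases.getD k 0) := by
  induction hg using Subgroup.closure_induction with
  | mem x hx =>
    obtain ⟨hx, hxc⟩ := hx
    have hb : ∀ k < 4, (pt (bases.getD k 0)).val = bases.getD k 0 := by decide
    refine Fin.ext ?_
    rw [← img_code (comm_s hx), hb k hk]
    by_cases h3 : k < 3
    · have h := List.all_eq_true.1 fix_ok k (List.mem_range.2 hk)
      simp only [fixOK, List.all_eq_true, List.mem_range'_1, beq_iff_eq] at h
      exact h (k + 1) ⟨le_rfl, by omega⟩ _ hxc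
    · obtain rfl : k = 3 := by omega
      simp [xList] at hxc
  | one => rfl
  | mul a b _ _ ha hb => rw [Equiv.Perm.mul_apply, hb, ha]
  | inv a _ ha => conv_lhs => rw [← ha, Equiv.Perm.inv_def, Equiv.symm_apply_apply]

theorem rest_mem : ∀ (n l w : ℕ), l + n = 4 → restLt n l w = true →
    ∃ g ∈ H l, code g = restP n l w
  | 0, l, _, _, _ => ⟨1, one_mem _, code_one⟩
  | n + 1, l, w, hl, h => by
    simp only [restLt, Bool.and_eq_true, decide_eq_true_eq] at h
    obtain ⟨h1, h2⟩ := h
    obtain ⟨hm, hc⟩ := tr_spec (show l < 4 by omega) _ h1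
    obtain ⟨g, hg, hgc⟩ := rest_mem n (l + 1) _ (by omega) h2
    have hgl := H_succ_le (show l < 4 by omega) hg
    refine ⟨tEl l (Nat.land w 1023) * g, mul_mem hm hgl, ?_⟩
    rw [code_mul' (H_le l hm) (H_le l hgl), hc, hgc]
    rfl

theorem step_spec {k : ℕ} (hk : k < 4) {x : Equiv.Perm Pt} (hx : x ∈ X k) {i : ℕ}
    (hi : i < size k) :
    ∃ j < size k, ∃ h ∈ H (k + 1), x * tEl k i = tEl k j * h := by
  obtain ⟨hx, hxc⟩ := hx
  obtain ⟨g, hg, hge⟩ := List.getElem_of_mem hxc
  have h := List.all_eq_true.1 (step_all k hk i hi) i (by simp)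
  have h' := List.all_eq_true.1 h g (List.mem_range.2 hg)
  simp only [Bool.and_eq_true, decide_eq_true_eq, beq_iff_eq] at h'
  obtain ⟨⟨hj, hlt⟩, he⟩ := h'
  obtain ⟨r, hr, hrc⟩ := rest_mem (3 - k) (k + 1) _ (by omega) hlt
  refine ⟨_, hj, r, hr, ?_⟩
  obtain ⟨hjm, hjc⟩ := tr_spec hk _ hj
  obtain ⟨him, hic⟩ := tr_spec hk i hi
  refine code_inj' (mul_mem hx (H_le k him))
    (mul_mem (H_le k hjm) (H_le _ hr)) ?_
  rw [code_mul' hx (H_le k him), code_mul' (H_le k hjm) (H_le _ hr), hjc, hrc, hic, he, xAt,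
    List.getD_eq_getElem _ _ hg, hge]

theorem size_pos : ∀ k < 4, 0 < size k := by decide

theorem card_H {k : ℕ} (hk : k < 4) : Nat.card (H k) = size k * Nat.card (H (k + 1)) := by
  let F : Fin (size k) × H (k + 1) → H k := fun q =>
    ⟨tEl k q.1.val * q.2.1, mul_mem (tr_spec hk _ q.1.isLt).1 (H_succ_le hk q.2.2)⟩
  have hs : Function.Surjective F := by
    rintro ⟨g, hg⟩
    have hg' : g ∈ Submonoid.closure (X k) := by
      rw [← Subgroup.closure_toSubmonoid_of_finite]; exact hg
    suffices ∃ i < size k, ∃ h ∈ H (k + 1), g = tEl k i * h by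
      obtain ⟨i, hi, h, hh, e⟩ := this
      exact ⟨(⟨i, hi⟩, ⟨h, hh⟩), Subtype.ext e.symm⟩
    clear hg
    induction hg' using Submonoid.closure_induction_left with
    | one =>
      refine ⟨0, size_pos k hk, 1, one_mem _, ?_⟩
      have h := List.all_eq_true.1 (tree_all k hk 0 (size_pos k hk)) 0 (by simp)
      simp only [beq_self_eq_true, if_true, Bool.and_eq_true, beq_iff_eq] at h
      rw [mul_one, tEl, h.1.1, ← code_one, el_eq (one_mem _)]
    | mul_left x hx y hy ih =>
      obtain ⟨i, hi, h, hh, rfl⟩ := ih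
      obtain ⟨j, hj, h0, hh0, e⟩ := step_spec hk hx hi
      exact ⟨j, hj, h0 * h, mul_mem hh0 hh, by rw [← mul_assoc, e, mul_assoc]⟩
  have hi : Function.Injective F := by
    rintro ⟨i, a⟩ ⟨j, b⟩ e
    have e' : tEl k i.val * a.1 = tEl k j.val * b.1 := congrArg Subtype.val e
    have e1 := congrArg (fun g : Equiv.Perm Pt => g (pt (bases.getD k 0))) e'
    simp only [Equiv.Perm.mul_apply, fix_base hk a.2, fix_base hk b.2] at e1
    have hij : i = j := Fin.ext (by
      rw [← tr_base hk i.isLt, e1, tr_base hk j.isLt])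
    subst hij
    exact Prod.ext rfl (Subtype.ext (mul_left_cancel e'))
  rw [← Nat.card_congr (Equiv.ofBijective F ⟨hi, hs⟩), Nat.card_prod, Nat.card_fin]

theorem card_G0 : Nat.card G0 = 88704000 := by
  have h4 : H 4 = ⊥ := by
    rw [H, Subgroup.closure_eq_bot_iff]
    rintro g ⟨-, h⟩
    simp [xList] at h
  rw [← H_zero, card_H (show 0 < 4 by norm_num), card_H (show 1 < 4 by norm_num),
    card_H (show 2 < 4 by norm_num), card_H (show 3 < 4 by norm_num), h4, Subgroup.card_bot]
  rfl

theorem restP_mem {w : ℕ} (h : restLt 4 0 w = true) : ∃ g ∈ G0, code g = restP 4 0 w := by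
  obtain ⟨g, hg, hc⟩ := rest_mem 4 0 w rfl h
  exact ⟨g, H_le 0 hg, hc⟩

theorem sq_check : mulP cA cA = sP := by decide +kernel

theorem sPerm_eq : gA * gA = sPerm := by
  refine code_inj (comm_s (mul_mem gA_mem gA_mem)) rfl ?_
  rw [code_mul gA_spec.1 gA_spec.1, gA_spec.2, code_sPerm, sq_check]

theorem sPerm_mem : sPerm ∈ G0 := sPerm_eq ▸ mul_mem gA_mem gA_mem

theorem flip_check : restLt 4 0 171125134 = true ∧
    mulP (restP 4 0 171125134) cA = mulP cA (mulP cA (mulP cA (restP 4 0 171125134))) := by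
  decide +kernel

theorem exists_commutator : ∃ y ∈ G0, ⁅y, gA⁆ = sPerm := by
  obtain ⟨y, hy, hc⟩ := restP_mem flip_check.1
  refine ⟨y, hy, ?_⟩
  have e : y * gA = gA * (gA * (gA * y)) := by
    refine code_inj' (mul_mem hy gA_mem) (mul_mem gA_mem (mul_mem gA_mem (mul_mem gA_mem hy))) ?_
    rw [code_mul' hy gA_mem, code_mul' gA_mem (mul_mem gA_mem (mul_mem gA_mem hy)),
      code_mul' gA_mem (mul_mem gA_mem hy), code_mul' gA_mem hy, hc, gA_spec.2, flip_check.2]
  rw [commutatorElement_def, e, ← sPerm_eq]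
  group

end H81.HS2
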