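import Mathlib.GroupTheory.Perm.Basic
import Mathlib.GroupTheory.Subgroup.Center
import Mathlib.Algebra.Group.Subgroup.Lattice
import Mathlib.Data.Fintype.Perm
import Mathlib.Data.Nat.Bitwise
import Mathlib.Tactic

/-!
Permutations of 704 points commuting with the involution `x ↦ x xor 1`, packed into one number by
their values at the even points.
-/

set_option autoImplicit false

namespace H81.HS2

/-- Ten bit fields, the field `k` holding `f k`. -/
noncomputable def pack (f : ℕ → ℕ) (n : ℕ) : ℕ :=
  Nat.rec (motive := fun _ => ℕ) 0 (fun k acc => Nat.lor acc (Nat.shiftLeft (f k) (10 * k))) n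

/-- The image of a point under a packed permutation. -/
def img (c x : ℕ) : ℕ :=
  Nat.xor (Nat.land (Nat.shiftRight c (10 * Nat.shiftRight x 1)) 1023) (Nat.land x 1)

/-- The product of packed permutations. -/
noncomputable def mulP (a b : ℕ) : ℕ := pack (fun i => img a (img b (2 * i))) 352

/-- The identity, packed. -/
noncomputable def idP : ℕ := pack (fun i => 2 * i) 352

/-- The central involution, packed. -/
noncomputable def sP : ℕ := pack (fun i => 2 * i + 1) 352

theorem testBit_pack (f : ℕ → ℕ) : ∀ (n : ℕ), (∀ k < n, f k < 1024) → ∀ j,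
    (pack f n).testBit j = (decide (j < 10 * n) && (f (j / 10)).testBit (j % 10))
  | 0, _, j => by simp [pack]
  | n + 1, h, j => by
    show (Nat.lor (pack f n) (Nat.shiftLeft (f n) (10 * n))).testBit j = _
    show ((pack f n) ||| (f n <<< (10 * n))).testBit j = _
    rw [Nat.testBit_or, testBit_pack f n (fun k hk => h k (by omega)) j, Nat.testBit_shiftLeft]
    by_cases h1 : j < 10 * n
    · simp [h1, show ¬ 10 * n ≤ j by omega, show j < 10 * (n + 1) by omega]
    · by_cases h2 : j < 10 * (n + 1)
      · have e1 : j / 10 = n := by omega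
        have e2 : j % 10 = j - 10 * n := by omega
        simp [h1, h2, e1, e2, show 10 * n ≤ j by omega]
      · have : (f n).testBit (j - 10 * n) = false :=
          Nat.testBit_eq_false_of_lt (lt_of_lt_of_le (h n (by omega))
            ((show (1024 : ℕ) = 2 ^ 10 by norm_num) ▸ Nat.pow_le_pow_right two_pos (by omega)))
        simp [h1, h2, this]

theorem field_pack {f : ℕ → ℕ} {n k : ℕ} (h : ∀ k < n, f k < 1024) (hk : k < n) :
    (pack f n >>> (10 * k)) &&& 1023 = f k := by
  refine Nat.eq_of_testBit_eq fun j => ?_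
  rw [Nat.testBit_and, Nat.testBit_shiftRight, testBit_pack f n h,
    show (1023 : ℕ) = 2 ^ 10 - 1 by norm_num, Nat.testBit_two_pow_sub_one]
  by_cases hj : j < 10
  · simp [hj, show 10 * k + j < 10 * n by omega, show (10 * k + j) / 10 = k by omega,
      show j % 10 = j by omega]
  · have : (f k).testBit j = false :=
      Nat.testBit_eq_false_of_lt (lt_of_lt_of_le (h k hk)
        ((show (1024 : ℕ) = 2 ^ 10 by norm_num) ▸ Nat.pow_le_pow_right two_pos (by omega)))
    simp [hj, this]

theorem pack_congr {f g : ℕ → ℕ} : ∀ n, (∀ k < n, f k = g k) → pack f n = pack g n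
  | 0, _ => rfl
  | n + 1, h => by
    show Nat.lor (pack f n) (Nat.shiftLeft (f n) (10 * n)) =
      Nat.lor (pack g n) (Nat.shiftLeft (g n) (10 * n))
    rw [pack_congr n fun k hk => h k (by omega), h n (by omega)]

/-- The points. -/
abbrev Pt := Fin 704

/-- The central involution. -/
def sPerm : Equiv.Perm Pt where
  toFun x := ⟨Nat.xor x.val 1, by
    have h : ∀ y < 704, Nat.xor y 1 < 704 := by decide +kernel
    exact h x.val x.isLt⟩
  invFun x := ⟨Nat.xor x.val 1, by
    have h : ∀ y < 704, Nat.xor y 1 < 704 := by decide +kernel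
    exact h x.val x.isLt⟩
  left_inv x := Fin.ext (Nat.xor_xor_cancel_right x.val 1)
  right_inv x := Fin.ext (Nat.xor_xor_cancel_right x.val 1)

/-- The point numbered `n`. -/
def pt (n : ℕ) : Pt := ⟨n % 704, Nat.mod_lt _ (by norm_num)⟩

theorem pt_val (x : Pt) : pt x.val = x := Fin.ext (Nat.mod_eq_of_lt x.isLt)

/-- The packed form of a permutation. -/
noncomputable def code (g : Equiv.Perm Pt) : ℕ := pack (fun i => (g (pt (2 * i))).val) 352

theorem img_code {g : Equiv.Perm Pt} (hg : g * sPerm = sPerm * g) (x : Pt) :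
    img (code g) x.val = (g x).val := by
  have hx := x.isLt
  have hf : (code g >>> (10 * (x.val / 2))) &&& 1023 = (g (pt (2 * (x.val / 2)))).val :=
    field_pack (fun k _ => lt_trans (g _).isLt (by norm_num)) (by omega)
  show Nat.xor ((code g >>> (10 * (x.val >>> 1))) &&& 1023) (x.val &&& 1) = _
  rw [show x.val >>> 1 = x.val / 2 from by rw [Nat.shiftRight_eq_div_pow, pow_one], hf, Nat.and_one_is_mod]
  rcases Nat.mod_two_eq_zero_or_one x.val with h | h <;> rw [h]
  · show (g _).val ^^^ 0 = _
    rw [Nat.xor_zero, show pt (2 * (x.val / 2)) = x from Fin.ext (by simp [pt]; omega)]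
  · have hs : x = sPerm (pt (2 * (x.val / 2))) := Fin.ext (by
      show x.val = Nat.xor (2 * (x.val / 2) % 704) 1
      show x.val = (2 * (x.val / 2) % 704) ^^^ 1
      rw [Nat.mod_eq_of_lt (by omega), show (2 * (x.val / 2)) ^^^ 1 = 2 * (x.val / 2) + 1 from ?_]
      · omega
      · have h2 : ∀ y < 352, (2 * y) ^^^ 1 = 2 * y + 1 := by decide +kernel
        exact h2 _ (by omega))
    conv_rhs => rw [hs, ← Equiv.Perm.mul_apply, hg, Equiv.Perm.mul_apply]
    rfl

theorem code_mul {g h : Equiv.Perm Pt} (hg : g * sPerm = sPerm * g) (hh : h * sPerm = sPerm * h) :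
    code (g * h) = mulP (code g) (code h) := by
  refine pack_congr _ fun i hi => ?_
  have e : (2 * i : ℕ) = (pt (2 * i)).val := by simp [pt]; omega
  conv_rhs => rw [e, img_code hh, img_code hg]
  rfl

theorem code_one : code 1 = idP :=
  pack_congr _ fun i hi => by simp [pt]; omega

theorem code_sPerm : code sPerm = sP :=
  pack_congr _ fun i hi => by
    have h2 : ∀ y < 352, (2 * y % 704) ^^^ 1 = 2 * y + 1 := by decide +kernel
    exact h2 i hi

theorem code_inj {g h : Equiv.Perm Pt} (hg : g * sPerm = sPerm * g) (hh : h * sPerm = sPerm * h)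
    (e : code g = code h) : g = h :=
  Equiv.ext fun x => Fin.ext (by rw [← img_code hg, ← img_code hh, e])

/-- A number packs a permutation with given inverse. -/
noncomputable def pairOK (c d : ℕ) : Bool :=
  (List.range 704).all (fun x => decide (img c x < 704) && decide (img d x < 704) &&
    img d (img c x) == x && img c (img d x) == x && img c (Nat.xor x 1) == Nat.xor (img c x) 1) &&
  pack (fun i => img c (2 * i)) 352 == c

theorem exists_of_pairOK {c d : ℕ} (h : pairOK c d = true) :
    ∃ g : Equiv.Perm Pt, g * sPerm = sPerm * g ∧ code g = c := by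
  simp only [pairOK, Bool.and_eq_true, List.all_eq_true, List.mem_range, decide_eq_true_eq,
    beq_iff_eq] at h
  obtain ⟨h, hc⟩ := h
  let g : Equiv.Perm Pt :=
    { toFun := fun x => ⟨img c x.val, (h x.val x.isLt).1.1.1.1⟩
      invFun := fun x => ⟨img d x.val, (h x.val x.isLt).1.1.1.2⟩
      left_inv := fun x => Fin.ext (h x.val x.isLt).1.1.2
      right_inv := fun x => Fin.ext (h x.val x.isLt).1.2 }
  refine ⟨g, Equiv.ext fun x => Fin.ext ?_, ?_⟩
  · exact (h x.val x.isLt).2
  · refine (pack_congr _ fun i hi => ?_).trans hc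
    show img c ((2 * i) % 704) = _
    rw [Nat.mod_eq_of_lt (by omega)]

end H81.HS2
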