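import Mathlib
import Cfsg.Agent.H81.HS.Vectors
import Cfsg.Agent.H81.HS.Chain
import Cfsg.Agent.H97.SchurSporadic
import Cfsg.Agent.H95.M22Simple
import Cfsg.Agent.H96.HS100

/-!
The group on 704 points is a double cover of the Higman–Sims group: its action on the 352 pairs is
that of the stabiliser of two lattice vectors on 352 lattice vectors.
-/

set_option autoImplicit false
set_option maxRecDepth 100000

namespace H81.HS2

open Cfsg H95
open scoped commutatorElement

/-- A vector from a list. -/
def vecF (l : List ℤ) : GolayPt → ℤ := fun p => l.getD (H90.idx p).val 0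

theorem vecs_ok : (List.range 352).all (fun i => H96.Check.checkB (vecF (wTab.getD i []))) = true := by
  decide +kernel

/-- The 352 vectors. -/
def wV (i : Fin 352) : leechLattice :=
  ⟨vecF (wTab.getD i.val []),
    H96.Check.checkB_spec (List.all_eq_true.1 vecs_ok i.val (List.mem_range.2 i.isLt))⟩

/-- A key of a vector. -/
def keyL (l : List ℤ) : ℕ := l.foldl (fun acc x => 16 * acc + (x + 8).toNat) 0

theorem keys_increasing : H97.SchurCert.increasing
    ((List.range 352).map fun i => keyL (H95.vecL (vecF (wTab.getD i [])))) = true := by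
  decide +kernel

theorem coe_wV (i : Fin 352) : (wV i : GolayPt → ℤ) = vecF (wTab.getD i.val []) := rfl

attribute [local irreducible] wTab keyL

theorem wV_injective : Function.Injective wV := by
  intro i j e
  have hn := List.pairwise_iff_getElem.1 (H97.SchurCert.increasing_nodup _ keys_increasing)
  have hk : keyL (H95.vecL (vecF (wTab.getD i.val []))) = keyL (H95.vecL (vecF (wTab.getD j.val []))) := by
    rw [← coe_wV, ← coe_wV, e]
  by_contra hne
  rcases Nat.lt_or_gt_of_ne (fun h => hne (Fin.ext h)) with h | h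
  · have := hn i.val j.val (by simp) (by simp) h
    simp only [List.getElem_map, List.getElem_range] at this
    omega
  · have := hn j.val i.val (by simp) (by simp) h
    simp only [List.getElem_map, List.getElem_range] at this
    omega

/-- The conditions on a matrix for a permutation code. -/
def moveOK (E : List (List ℤ)) (c : ℕ) : Bool :=
  H97.Co0Code.genOK E [vecL (Spor.leechV : GolayPt → ℤ), vecL (pvU'.w : GolayPt → ℤ)] &&
  (List.range 352).all fun i =>
    applyL E (vecL (vecF (wTab.getD i []))) == vecL (vecF (wTab.getD (img c (2 * i) / 2) []))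

theorem moveA : moveOK matA cA = true := by decide +kernel

theorem moveB : moveOK matB cB = true := by decide +kernel

/-- The pair containing the image of a pair. -/
def blk (g : Equiv.Perm Pt) (i : Fin 352) : Fin 352 :=
  ⟨(g (pt (2 * i.val))).val / 2, by have := (g (pt (2 * i.val))).isLt; omega⟩

theorem div_two_xor : ∀ y < 704, Nat.xor y 1 / 2 = y / 2 := by decide +kernel

theorem blk_val {g : Equiv.Perm Pt} (hg : g ∈ G0) (x : Pt) :
    (g x).val / 2 = (blk g ⟨x.val / 2, by have := x.isLt; omega⟩).val := by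
  have hx := x.isLt
  show _ = (g (pt (2 * (x.val / 2)))).val / 2
  rcases Nat.mod_two_eq_zero_or_one x.val with h | h
  · rw [show pt (2 * (x.val / 2)) = x from Fin.ext (by simp [pt]; omega)]
  · have hs : sPerm (pt (2 * (x.val / 2))) = x := Fin.ext (by
      show Nat.xor (2 * (x.val / 2) % 704) 1 = x.val
      rw [Nat.mod_eq_of_lt (by omega)]
      have h2 : ∀ y < 352, Nat.xor (2 * y) 1 = 2 * y + 1 := by decide +kernel
      rw [h2 _ (by omega)]
      omega)
    conv_lhs => rw [← hs, ← Equiv.Perm.mul_apply, comm_s hg, Equiv.Perm.mul_apply]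
    exact div_two_xor _ (g _).isLt

theorem blk_mul {g : Equiv.Perm Pt} (hg : g ∈ G0) (h : Equiv.Perm Pt) (i : Fin 352) :
    blk (g * h) i = blk g (blk h i) :=
  Fin.ext (blk_val hg (h (pt (2 * i.val))))

theorem blk_one (i : Fin 352) : blk 1 i = i := Fin.ext (by
  have := i.isLt
  show (2 * i.val) % 704 / 2 = i.val
  omega)

theorem blk_s (i : Fin 352) : blk sPerm i = i := Fin.ext (by
  have h2 : ∀ y < 352, Nat.xor ((2 * y) % 704) 1 / 2 = y := by decide +kernel
  exact h2 i.val i.isLt)

/-- A lattice automorphism follows a permutation of the pairs. -/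
def Rel (g : Equiv.Perm Pt) (γ : Co0) : Prop := ∀ i, γ • wV i = wV (blk g i)

theorem rel_of_move {g : Equiv.Perm Pt} {E : List (List ℤ)} {c : ℕ} (hg : g ∈ G0)
    (hc : code g = c) (h : moveOK E c = true) : ∃ γ : pvU'.group, Rel g γ.1 := by
  simp only [moveOK, H97.Co0Code.genOK, Bool.and_eq_true, List.all_eq_true, List.mem_range] at h
  obtain ⟨⟨⟨h1, h2⟩, h3⟩, h4⟩ := h
  let D : MatData := ⟨E, h1, fun a b => by
    obtain ⟨i, rfl⟩ := H90.ptEquiv.surjective a
    obtain ⟨j, rfl⟩ := H90.ptEquiv.surjective b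
    have h := h2 i (List.mem_finRange _) j (List.mem_finRange _)
    rw [beq_iff_eq, ← List.ofFn_eq_map, ← List.ofFn_eq_map, dotL_ofFn] at h
    rw [← Equiv.sum_comp H90.ptEquiv]
    simp only [EmbeddingLike.apply_eq_iff_eq]
    rw [← h]
    refine Finset.sum_congr rfl fun p _ => ?_
    show entryL E (H90.pt p) (H90.pt i) * entryL E (H90.pt p) (H90.pt j) = _
    rw [List.getD_eq_getElem (List.ofFn fun p : Fin 24 => (E.getD p.val []).getD i.val 0) 0
      (by simp), List.getElem_ofFn]
    simp only [entryL, H90.idx_pt]⟩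
  refine ⟨⟨D.elt, ⟨H97.Co0Code.smul_elt_eq D (h3 _ List.mem_cons_self),
    H97.Co0Code.smul_elt_eq D (h3 _ (List.mem_cons_of_mem _ List.mem_cons_self))⟩⟩, fun i => ?_⟩
  refine eq_of_vecL ((D.vecL_elt _).trans ?_)
  have e : (2 * i.val) % 704 = 2 * i.val := Nat.mod_eq_of_lt (by have := i.isLt; omega)
  have hb : (blk g i).val = img c (2 * i.val) / 2 := by
    show (g (pt (2 * i.val))).val / 2 = _
    rw [← img_code (comm_s hg), hc]
    show img c ((2 * i.val) % 704) / 2 = _
    rw [e]
  show applyL E (vecL (vecF (wTab.getD i.val []))) = vecL (vecF (wTab.getD (blk g i).val []))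
  rw [hb]
  exact beq_iff_eq.1 (h4 i.val i.isLt)

/-- The vectors of the basis modulo three. -/
def basVec (k : Fin 24) : leechLattice :=
  match basSel.getD k.val 0 with
  | 0 => pvU'.w
  | 1 => Spor.leechV
  | n + 2 => if h : n < 352 then wV ⟨n, h⟩ else Spor.leechV

/-- The basis as a matrix. -/
def basMat : H97.M24x.Mat24 :=
  Matrix.of fun i k => (((basVec k : leechLattice) : GolayPt → ℤ) (H90.pt i) : ZMod 3)

/-- Its inverse. -/
def basInvMat : H97.M24x.Mat24 :=
  Matrix.of fun i k => ((basInv.getD i.val []).getD k.val 0 : ZMod 3)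

theorem basMat_inv : basMat * basInvMat = 1 := by
  have h : ∀ i k : Fin 24, (∑ j : Fin 24, basMat i j * basInvMat j k : ZMod 3) =
      (if i = k then 1 else 0 : ZMod 3) := by decide +kernel
  ext i k
  rw [Matrix.mul_apply, Matrix.one_apply]
  exact h i k

theorem eq_one_of_fix {δ : Co0} (hV : δ • Spor.leechV = Spor.leechV) (hU : δ • pvU'.w = pvU'.w)
    (hW : ∀ i, δ • wV i = wV i) : δ = 1 := by
  refine H97.Co0Code.eq_one_of_red ?_
  have hfix : ∀ k, δ • basVec k = basVec k := by
    intro k
    unfold basVec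
    split
    · exact hU
    · exact hV
    · split
      · exact hW _
      · exact hV
  have hB : H97.Co0Code.red δ * basMat = basMat := by
    ext i k
    rw [Matrix.mul_apply]
    simp only [basMat, H97.Co0Code.red, Matrix.of_apply]
    have e := congrArg (fun z : ℤ => (z : ZMod 3)) (H97.Co0Code.img8_apply' δ (basVec k) i)
    simp only [hfix, Int.cast_mul, H97.Co0Code.eight_two, Int.cast_sum] at e
    simp only [mul_assoc]
    rw [← Finset.mul_sum, ← e, ← mul_assoc]
    rw [show (2 : ZMod 3) * 2 = 1 from by decide, one_mul]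
  calc H97.Co0Code.red δ = H97.Co0Code.red δ * (basMat * basInvMat) := by rw [basMat_inv, mul_one]
    _ = 1 := by rw [← mul_assoc, hB, basMat_inv]

theorem rel_unique {g : Equiv.Perm Pt} {γ γ' : pvU'.group} (h : Rel g γ.1) (h' : Rel g γ'.1) :
    γ = γ' := by
  refine inv_mul_eq_one.1 (Subtype.ext (eq_one_of_fix (γ⁻¹ * γ').2.1 (γ⁻¹ * γ').2.2 fun i => ?_))
  show ((γ.1)⁻¹ * γ'.1) • wV i = wV i
  rw [mul_smul, h' i, ← h i, inv_smul_smul]

theorem exists_rel {g : Equiv.Perm Pt} (hg : g ∈ G0) : ∃ γ : pvU'.group, Rel g γ.1 := by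
  induction hg using Subgroup.closure_induction with
  | mem x hx =>
    rcases hx with rfl | hx
    · exact rel_of_move gA_mem gA_spec.2 moveA
    · rw [Set.mem_singleton_iff.1 hx]; exact rel_of_move gB_mem gB_spec.2 moveB
  | one => exact ⟨1, fun i => by rw [blk_one, OneMemClass.coe_one, one_smul]⟩
  | mul a b ha _ iha ihb =>
    obtain ⟨γ, hγ⟩ := iha
    obtain ⟨δ, hδ⟩ := ihb
    exact ⟨γ * δ, fun i => by rw [Subgroup.coe_mul, mul_smul, hδ, hγ, blk_mul ha]⟩
  | inv a ha iha =>
    obtain ⟨γ, hγ⟩ := iha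
    refine ⟨γ⁻¹, fun i => ?_⟩
    rw [InvMemClass.coe_inv, inv_smul_eq_iff, hγ, ← blk_mul ha, mul_inv_cancel, blk_one]

/-- The projection. -/
noncomputable def proj : G0 →* pvU'.group :=
  MonoidHom.mk' (fun g => Classical.choose (exists_rel g.2)) fun a b =>
    rel_unique (g := (a * b : G0).1) (Classical.choose_spec (exists_rel (a * b).2)) fun i => by
      rw [Subgroup.coe_mul, Subgroup.coe_mul, mul_smul, Classical.choose_spec (exists_rel b.2),
        Classical.choose_spec (exists_rel a.2), blk_mul a.2]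

theorem proj_rel (g : G0) : Rel g.1 (proj g).1 := Classical.choose_spec (exists_rel g.2)

/-- Elements for the lower bound, by level. -/
noncomputable def uList : ℕ → List ℕ
  | 0 => half0.map (trAt 0)
  | 1 => half1.map (trAt 1)
  | 2 => half2.map (trAt 2)
  | 3 => half3.map fun w =>
      restP 4 0 (w.getD 0 0 + 1024 * (w.getD 1 0 + 1024 * (w.getD 2 0 + 1024 * w.getD 3 0)))
  | _ => []

/-- Pairs for the lower bound, by level. -/
def uBase (k : ℕ) : ℕ := if k < 3 then bases.getD k 0 / 2 else b3

theorem uIdx_ok : half0.all (· < 704) = true ∧ half1.all (· < 350) = true ∧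
    half2.all (· < 180) = true ∧ half3.all (fun w =>
      restLt 4 0 (w.getD 0 0 + 1024 * (w.getD 1 0 + 1024 * (w.getD 2 0 + 1024 * w.getD 3 0)))) = true := by
  decide +kernel

theorem uImages : (List.range 4).all (fun k => (List.range k).all (fun l =>
    (uList k).all fun c => img c (2 * uBase l) / 2 == uBase l) &&
    decide (((uList k).map fun c => img c (2 * uBase k) / 2).Nodup)) = true := by
  decide +kernel

theorem uLengths : ∀ k < 4, (uList k).length = [352, 175, 90, 8].getD k 0 := by decide +kernel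

theorem uBase_lt : ∀ k < 4, uBase k < 352 := by decide

theorem u_exists {k : ℕ} {c : ℕ} (hc : c ∈ uList k) : ∃ g ∈ G0, code g = c := by
  have aux : ∀ j < 4, ∀ i < size j, ∃ g ∈ G0, code g = trAt j i := fun j hj i hi =>
    ⟨tEl j i, H_le j (tr_spec hj i hi).1, (tr_spec hj i hi).2⟩
  obtain ⟨h0, h1, h2, h3⟩ := uIdx_ok
  simp only [List.all_eq_true, decide_eq_true_eq] at h0 h1 h2 h3
  match k with
  | 0 => obtain ⟨i, hi, rfl⟩ := List.mem_map.1 hc; exact aux 0 (by norm_num) i (h0 i hi)
  | 1 => obtain ⟨i, hi, rfl⟩ := List.mem_map.1 hc; exact aux 1 (by norm_num) i (h1 i hi)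
  | 2 => obtain ⟨i, hi, rfl⟩ := List.mem_map.1 hc; exact aux 2 (by norm_num) i (h2 i hi)
  | 3 => obtain ⟨i, hi, rfl⟩ := List.mem_map.1 hc; exact restP_mem (h3 i hi)
  | k + 4 => simp [uList] at hc

/-- The images of the elements of the levels from `k` on. -/
def K (k : ℕ) : Subgroup pvU'.group :=
  Subgroup.closure {γ | ∃ l, k ≤ l ∧ l < 4 ∧ ∃ g : G0, code g.1 ∈ uList l ∧ γ = proj g}

theorem K_succ_le (k : ℕ) : K (k + 1) ≤ K k :=
  Subgroup.closure_mono fun _ ⟨l, h1, h2, h3⟩ => ⟨l, by omega, h2, h3⟩

theorem proj_apply_base {l : ℕ} (hl : l < 4) (g : G0) :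
    (proj g).1 • wV ⟨uBase l, uBase_lt l hl⟩ = wV (blk g.1 ⟨uBase l, uBase_lt l hl⟩) :=
  proj_rel g _

theorem blk_code {g : Equiv.Perm Pt} (hg : g ∈ G0) (i : Fin 352) :
    (blk g i).val = img (code g) (2 * i.val) / 2 := by
  show (g (pt (2 * i.val))).val / 2 = _
  rw [← img_code (comm_s hg)]
  show img (code g) ((2 * i.val) % 704) / 2 = _
  rw [Nat.mod_eq_of_lt (by have := i.isLt; omega)]

theorem K_fix {k : ℕ} (hk : k < 4) {γ : pvU'.group} (hγ : γ ∈ K (k + 1)) :
    γ.1 • wV ⟨uBase k, uBase_lt k hk⟩ = wV ⟨uBase k, uBase_lt k hk⟩ := by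
  induction hγ using Subgroup.closure_induction with
  | mem x hx =>
    obtain ⟨l, h1, h2, g, hg, rfl⟩ := hx
    rw [proj_apply_base hk]
    congr 1
    refine Fin.ext ?_
    rw [blk_code g.2]
    have h := List.all_eq_true.1 uImages l (List.mem_range.2 h2)
    simp only [Bool.and_eq_true, List.all_eq_true, List.mem_range, beq_iff_eq] at h
    exact h.1 k (by omega) _ hg
  | one => rw [OneMemClass.coe_one, one_smul]
  | mul a b _ _ ha hb => rw [Subgroup.coe_mul, mul_smul, hb, ha]
  | inv a _ ha => rw [InvMemClass.coe_inv, inv_smul_eq_iff, ha]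

theorem card_K {k : ℕ} (hk : k < 4) : (uList k).length * Nat.card (K (k + 1)) ≤ Nat.card (K k) := by
  haveI : Finite pvU'.group := Nat.finite_of_card_ne_zero (by rw [H96.HS100.card_group]; norm_num)
  have hex : ∀ i : Fin (uList k).length, ∃ g : G0, code g.1 = (uList k)[i.val] := fun i =>
    let ⟨g, hg, hc⟩ := u_exists (List.getElem_mem i.isLt)
    ⟨⟨g, hg⟩, hc⟩
  choose u hu using hex
  let F : Fin (uList k).length × K (k + 1) → K k := fun q =>
    ⟨proj (u q.1) * q.2.1, mul_mem
      (Subgroup.subset_closure ⟨k, le_rfl, hk, u q.1, by rw [hu]; exact List.getElem_mem _, rfl⟩)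
      (K_succ_le k q.2.2)⟩
  have hF : Function.Injective F := by
    rintro ⟨i, a⟩ ⟨j, b⟩ e
    have e' : proj (u i) * a.1 = proj (u j) * b.1 := congrArg Subtype.val e
    have e1 := congrArg (fun γ : pvU'.group => γ.1 • wV ⟨uBase k, uBase_lt k hk⟩) e'
    simp only [Subgroup.coe_mul, mul_smul, K_fix hk a.2, K_fix hk b.2, proj_apply_base hk] at e1
    have e2 := congrArg Fin.val (wV_injective e1)
    rw [blk_code (u i).2, blk_code (u j).2, hu, hu] at e2
    have h := List.all_eq_true.1 uImages k (List.mem_range.2 hk)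
    simp only [Bool.and_eq_true, decide_eq_true_eq] at h
    have hij : i = j := Fin.ext ((List.Nodup.getElem_inj_iff h.2
      (hi := by rw [List.length_map]; exact i.isLt)
      (hj := by rw [List.length_map]; exact j.isLt)).1
      (by simp only [List.getElem_map]; exact e2))
    subst hij
    exact Prod.ext rfl (Subtype.ext (mul_left_cancel e'))
  have h := Nat.card_le_card_of_injective F hF
  rwa [Nat.card_prod, Nat.card_fin] at h

theorem proj_surjective : Function.Surjective proj := by
  haveI : Finite pvU'.group := Nat.finite_of_card_ne_zero (by rw [H96.HS100.card_group]; norm_num)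
  have h0 := card_K (show 0 < 4 by norm_num)
  have h1 := card_K (show 1 < 4 by norm_num)
  have h2 := card_K (show 2 < 4 by norm_num)
  have h3 := card_K (show 3 < 4 by norm_num)
  rw [uLengths 0 (by norm_num)] at h0
  rw [uLengths 1 (by norm_num)] at h1
  rw [uLengths 2 (by norm_num)] at h2
  rw [uLengths 3 (by norm_num)] at h3
  norm_num at h0 h1 h2 h3
  have h4 : 1 ≤ Nat.card (K 4) := Nat.card_pos
  have hK : K 0 = ⊤ := Subgroup.eq_top_of_le_card _ (by rw [H96.HS100.card_group]; omega)
  have hle : K 0 ≤ proj.range := (Subgroup.closure_le _).2 fun γ ⟨_, _, _, g, _, e⟩ => ⟨g, e.symm⟩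
  rw [hK] at hle
  exact MonoidHom.range_eq_top.1 (top_le_iff.1 hle)

theorem card_ker : Nat.card proj.ker = 2 := by
  have h := Subgroup.card_eq_card_quotient_mul_card_subgroup proj.ker
  rw [Nat.card_congr (QuotientGroup.quotientKerEquivOfSurjective proj proj_surjective).toEquiv,
    H96.HS100.card_group, card_G0] at h
  omega

theorem ker_le_center : proj.ker ≤ Subgroup.center G0 := by
  intro z hz
  rw [Subgroup.mem_center_iff]
  intro g
  by_cases hz1 : z = 1
  · rw [hz1, one_mul, mul_one]
  have hc : g * z * g⁻¹ ∈ proj.ker := (MonoidHom.normal_ker proj).conj_mem z hz g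
  haveI : Finite proj.ker := Nat.finite_of_card_ne_zero (by rw [card_ker]; norm_num)
  obtain ⟨x, y, hxy, huniv⟩ := Nat.card_eq_two_iff.1 card_ker
  have key : ∀ a : proj.ker, a ≠ 1 → a = if x = 1 then y else x := fun a ha => by
    have : a ∈ ({x, y} : Set proj.ker) := huniv ▸ Set.mem_univ a
    rcases this with rfl | h
    · rw [if_neg ha]
    · rw [Set.mem_singleton_iff] at h
      subst h
      have h1 : (1 : proj.ker) ∈ ({x, a} : Set proj.ker) := huniv ▸ Set.mem_univ 1
      rcases h1 with h1 | h1
      · rw [if_pos h1.symm]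
      · exact absurd (Set.mem_singleton_iff.1 h1).symm ha
  have e := congrArg Subtype.val ((key ⟨_, hc⟩ (fun h => hz1 (by
    have h' : g * z * g⁻¹ = 1 := congrArg Subtype.val h
    exact conj_eq_one_iff.1 h'))).trans (key ⟨z, hz⟩ (fun h => hz1 (congrArg Subtype.val h))).symm)
  exact mul_inv_eq_iff_eq_mul.1 e

theorem sPerm_ker : (⟨sPerm, sPerm_mem⟩ : G0) ∈ proj.ker :=
  rel_unique (proj_rel _) fun i => by rw [OneMemClass.coe_one, one_smul, blk_s]

theorem perfect : commutator G0 = ⊤ := by
  haveI hsimple : IsSimpleGroup pvU'.group := hs_simple m22_simple H96.HS100.card_group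
  haveI : Finite pvU'.group := Nat.finite_of_card_ne_zero (by rw [H96.HS100.card_group]; norm_num)
  have hperf : commutator pvU'.group = ⊤ := by
    refine (inferInstance : (commutator pvU'.group).Normal).eq_bot_or_eq_top.resolve_left fun h => ?_
    letI : CommGroup pvU'.group :=
      { (inferInstance : Group pvU'.group) with
        mul_comm := fun a b => commutatorElement_eq_one_iff_mul_comm.1 (by
          have : ⁅a, b⁆ ∈ commutator pvU'.group := Subgroup.commutator_mem_commutator
            (Subgroup.mem_top a) (Subgroup.mem_top b)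
          rw [h] at this
          exact Subgroup.mem_bot.1 this) }
    have hp : (Nat.card pvU'.group).Prime := IsSimpleGroup.prime_card
    rw [H96.HS100.card_group] at hp
    norm_num at hp
  have hker : proj.ker ≤ commutator G0 := by
    obtain ⟨y, hy, e⟩ := exists_commutator
    have hs : (⟨sPerm, sPerm_mem⟩ : G0) ∈ commutator G0 := by
      have : (⟨sPerm, sPerm_mem⟩ : G0) = ⁅(⟨y, hy⟩ : G0), (⟨gA, gA_mem⟩ : G0)⁆ :=
        Subtype.ext e.symm
      rw [this]
      exact Subgroup.commutator_mem_commutator (Subgroup.mem_top _) (Subgroup.mem_top _)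
    have hne : (⟨sPerm, sPerm_mem⟩ : G0) ≠ 1 := fun h => by
      have := congrArg (fun g : G0 => (g.1 (pt 0)).val) h
      exact absurd this (by decide +kernel)
    haveI : Fact (Nat.Prime 2) := ⟨Nat.prime_two⟩
    intro z hz
    have hgen : Subgroup.zpowers (⟨⟨sPerm, sPerm_mem⟩, sPerm_ker⟩ : proj.ker) = ⊤ :=
      zpowers_eq_top_of_prime_card card_ker (fun h => hne (congrArg Subtype.val h))
    obtain ⟨n, hn⟩ : (⟨z, hz⟩ : proj.ker) ∈ Subgroup.zpowers
        (⟨⟨sPerm, sPerm_mem⟩, sPerm_ker⟩ : proj.ker) := hgen ▸ Subgroup.mem_top _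
    have hn' := congrArg Subtype.val hn
    simp only [SubgroupClass.coe_zpow] at hn'
    rw [← hn']
    exact zpow_mem hs n
  have hmap : (commutator G0).map proj = ⊤ := by
    rw [commutator_def, Subgroup.map_commutator,
      Subgroup.map_top_of_surjective _ proj_surjective, ← commutator_def, hperf]
  rw [eq_top_iff]
  intro g _
  have hg : proj g ∈ (commutator G0).map proj := hmap ▸ Subgroup.mem_top _
  obtain ⟨c, hc, e⟩ := hg
  have : c⁻¹ * g ∈ commutator G0 := hker (by rw [MonoidHom.mem_ker, map_mul, map_inv, e, inv_mul_cancel])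
  simpa using mul_mem hc this

end H81.HS2
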