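import Mathlib.Data.List.Basic

/-! Transversal elements of level 3, from 0 to 2. -/

set_option autoImplicit false
set_option maxRecDepth 100000

namespace H81.HS2

def tr3_0 : List ℕ :=
  [0xafabcaeab8adab4acab0abaacaaaa8a9aa4a8aa0a7a9ca6a98a5a94a4a90a3a8ca2a88a1a84a0a809fa7c9ea789da749ca709ba6c9aa6899a6498a6097a5c96a5895a5494a5093a4c92a4891a4490a408fa3c8ea388da348ca308ba2c8aa2889a2488a2087a1c86a1885a1484a1083a0c82a0881a0480a007f9fc7e9f87d9f47c9f07b9ec7a9e8799e4789e0779dc769d8759d4749d0739cc729c8719c4709c06f9bc6e9b86d9b46c9b06b9ac6a9a8699a4689a06799c6699865994649906398c6298861984609805f97c5e9785d9745c9705b96c5a96859964589605795c5695855954549505394c5294851944509404f93c4e9384d9344c9304b92c4a92849924489204791c4691845914449104390c4290841904409003f8fc3e8f83d8f43c8f03b8ec3a8e8398e4388e0378dc368d8358d4348d0338cc328c8318c4308c02f8bc2e8b82d8b42c8b02b8ac2a8a8298a4288a02789c2689825894248902388c2288821884208801f87c1e8781d8741c8701b86c1a86819864188601785c1685815854148501384c1284811844108400f83c0e8380d8340c8300b82c0a82809824088200781c0681805814048100380c028080180400800,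
  0xafabcae95f8eeb49525148a01a3690a6d1e835555591da9d248769485ea8a2eaba3dd89113b4f2809f8677349f348d15ed9014c50250eb321b071ccf5cc9a2444294ab295ab1939e786a484fe8645dde8fa13add267fa0f82567195c31518835062710478169792920a4e148f5e48d6a354a3375e1f80aad8d91b7e9961618b6bc5e12c492617093610789e09011876a8881c565f9635427b4213898e228b549449465092a3d5314ce647cd0056c7d388c308c1a29810098867e10752e7042d0c7d6283d83a0f079749059cd023fd2c97de83c0b4078208c51574406ae4ef6ac8ea7aa1829ce35c6064dc16f04d6e8ed91e82a15c825cca6cdb513d746e0c68e298aba18a929d7f5dc90d656f8cc16d8c63dca6557d5e1ac5dc932705d619b71156e575419a4b80dce46987e378dc2bc7353e269da75985104d2664a0c46948804cbc284e82356c0748a36c822a82c678750a0bb9e4fa971ea4de6a3f65b560b72c0c0660082b080381a90e5811d8a53647003c680306c9f62f8914c7c0f943df67522a9be6c4bd457bded884f3960400f9826107b39c300543405ca80a8a26681968d685a8b3680250bc332fd9c1bc6a028845800400800]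

end H81.HS2
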