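import Cfsg.Agent.H81.HS.Code
import Cfsg.Agent.H81.HS.Gens
import Cfsg.Agent.H81.HS.Tr0
import Cfsg.Agent.H81.HS.Tr1
import Cfsg.Agent.H81.HS.Tr2
import Cfsg.Agent.H81.HS.Tr3
import Cfsg.Agent.H81.HS.Tr4
import Cfsg.Agent.H81.HS.Tr5
import Cfsg.Agent.H81.HS.Tr6
import Cfsg.Agent.H81.HS.Tr7

/-!
The levels of the chain and their checks.
-/

set_option autoImplicit false

namespace H81.HS2

/-- Transversals by level. -/
def trList : ℕ → List ℕ
  | 0 => tr0_0 ++ tr0_176 ++ tr0_352 ++ tr0_528
  | 1 => tr1_0 ++ tr1_175
  | 2 => tr2_0
  | 3 => tr3_0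
  | _ => []

/-- Generators by level. -/
def xList : ℕ → List ℕ
  | 0 => [cA, cB]
  | 1 => cX1
  | 2 => cX2
  | 3 => cX3
  | _ => []

/-- Words of the generators of level `k` in those of the level before. -/
def wList : ℕ → List (List ℕ)
  | 1 => wX1
  | 2 => wX2
  | 3 => wX3
  | _ => []

/-- Tree data by level. -/
def parList : ℕ → List ℕ
  | 0 => par0
  | 1 => par1
  | 2 => par2
  | 3 => par3
  | _ => []

/-- Orbit positions by level. -/
def posList : ℕ → List ℕ
  | 0 => pos0
  | 1 => pos1
  | 2 => pos2
  | 3 => pos3
  | _ => []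

/-- Sifting data by level. -/
def witList : ℕ → List ℕ
  | 0 => wit0
  | 1 => wit1
  | 2 => wit2
  | 3 => wit3
  | _ => []

/-- Sizes of the orbits. -/
def size : ℕ → ℕ
  | 0 => 704
  | 1 => 350
  | 2 => 180
  | 3 => 2
  | _ => 1

/-- An element of a transversal. -/
noncomputable def trAt (k i : ℕ) : ℕ := (trList k).getD i idP

/-- A generator. -/
noncomputable def xAt (k g : ℕ) : ℕ := (xList k).getD g idP

/-- The product of a word in the generators of a level. -/
noncomputable def wordP (k : ℕ) (w : List ℕ) : ℕ :=
  w.foldr (fun g acc => mulP (xAt k g) acc) idP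

/-- The generators of level `k + 1` are the stated words. -/
noncomputable def wordsOK (k : ℕ) : Bool :=
  decide ((wList (k + 1)).length = (xList (k + 1)).length) &&
  (List.range (xList (k + 1)).length).all fun g =>
    ((wList (k + 1)).getD g []).all (fun a => decide (a < (xList k).length)) &&
      wordP k ((wList (k + 1)).getD g []) == xAt (k + 1) g

/-- Tree and orbit check on the indices from `lo` to `lo + len`. -/
noncomputable def treeOK (k lo len : ℕ) : Bool :=
  (List.range' lo len).all fun i =>
    (if i == 0 then trAt k 0 == idP else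
      decide ((parList k).getD i 0 / 4 < i) &&
      decide ((parList k).getD i 0 % 4 < (xList k).length) &&
      mulP (xAt k ((parList k).getD i 0 % 4)) (trAt k ((parList k).getD i 0 / 4)) == trAt k i) &&
    decide (img (trAt k i) (bases.getD k 0) < 704) &&
    (posList k).getD (img (trAt k i) (bases.getD k 0)) 0 == i

/-- The generators of the later levels fix the base point of level `k`. -/
noncomputable def fixOK (k : ℕ) : Bool :=
  (List.range' (k + 1) (3 - k)).all fun l => (xList l).all fun c =>
    img c (bases.getD k 0) == bases.getD k 0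

/-- The product of the transversal elements named by the digits. -/
noncomputable def restP : ℕ → ℕ → ℕ → ℕ
  | 0, _, _ => idP
  | n + 1, l, w => mulP (trAt l (Nat.land w 1023)) (restP n (l + 1) (Nat.shiftRight w 10))

/-- The indices are in range. -/
def restLt : ℕ → ℕ → ℕ → Bool
  | 0, _, _ => true
  | n + 1, l, w =>
    decide (Nat.land w 1023 < size l) && restLt n (l + 1) (Nat.shiftRight w 10)

/-- Sifting check on the indices from `lo` to `lo + len`. -/
noncomputable def stepOK (k lo len : ℕ) : Bool :=
  (List.range' lo len).all fun i => (List.range (xList k).length).all fun g =>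
    let w := (witList k).getD ((xList k).length * i + g) 0
    decide (Nat.land w 1023 < size k) && restLt (3 - k) (k + 1) (Nat.shiftRight w 10) &&
      mulP (trAt k (Nat.land w 1023)) (restP (3 - k) (k + 1) (Nat.shiftRight w 10)) ==
        mulP (xAt k g) (trAt k i)

end H81.HS2
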